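import Mathlib
import Cfsg.Agent.S0713

/-!
# Pairs of permutations of large prime order
-/

set_option autoImplicit false

namespace Cfsg.Agent.Lib.AltPair.Generic

open Equiv Equiv.Perm MulAction
open scoped Pointwise

variable {α : Type*} [Fintype α] [DecidableEq α]

/-- Powers of an element of prime order separate a moved point. -/
theorem pow_apply_inj {x : Perm α} {p : ℕ} [Fact p.Prime] (hx : x ^ p = 1) {a : α} (ha : x a ≠ a) :
    Function.Injective fun i : Fin p => (x ^ (i : ℕ)) a := by
  have hper : ∀ i : ℕ, x^[i] a = (x ^ i) a := fun i => by rw [coe_pow]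
  have hmp : Function.minimalPeriod x a = p := by
    refine Function.minimalPeriod_eq_prime ?_ ha
    change x^[p] a = a
    rw [hper, hx, one_apply]
  intro i j hij
  have hi := i.isLt
  have hj := j.isLt
  refine Fin.ext ((Function.iterate_eq_iterate_iff_of_lt_minimalPeriod (x := a) (f := x) (by omega)
    (by omega)).1 ?_)
  rw [hper, hper]
  exact hij

/-- Two elements of large prime orders whose supports cover everything generate a transitive group. -/
theorem isPretransitive {p q : ℕ} [Fact p.Prime] (x y : Perm α) (hxp : x ^ p = 1) (hy : y.IsCycle)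
    (hyq : y.support.card = q) (hcov : ∀ a, x a ≠ a ∨ y a ≠ a) (hd : Fintype.card α < p + q)
    (H : Subgroup (Perm α)) (hxH : x ∈ H) (hyH : y ∈ H) : IsPretransitive H α := by
  have key : ∀ a, ∃ h ∈ H, y (h a) ≠ h a := by
    intro a
    by_cases ha : y a ≠ a
    · exact ⟨1, one_mem _, ha⟩
    · have hxa := (hcov a).resolve_right ha
      by_contra! hcon
      have hsub : (Finset.univ.image fun i : Fin p => (x ^ (i : ℕ)) a) ⊆ y.supportᶜ := by
        intro b hb
        simp only [Finset.mem_image] at hb
        obtain ⟨i, -, rfl⟩ := hb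
        rw [Finset.mem_compl, mem_support, not_not]
        exact hcon _ (pow_mem hxH _)
      have h1 := Finset.card_le_card hsub
      rw [Finset.card_image_of_injective _ (pow_apply_inj hxp hxa), Finset.card_univ,
        Fintype.card_fin, Finset.card_compl, hyq] at h1
      have hq : 0 < q := by
        rw [← hyq, Finset.card_pos]
        obtain ⟨b, hb, -⟩ := hy
        exact ⟨b, mem_support.2 hb⟩
      have := (Fact.out : p.Prime).pos
      omega
  obtain ⟨c, hc, hcy⟩ := hy
  refine ⟨fun a b => ?_⟩
  have hto : ∀ a, ∃ h ∈ H, h a = c := by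
    intro a
    obtain ⟨h, hh, hya⟩ := key a
    obtain ⟨i, hi⟩ := (hcy hya).symm
    exact ⟨y ^ i * h, mul_mem (zpow_mem hyH i) hh, hi⟩
  obtain ⟨g, hg, hga⟩ := hto a
  obtain ⟨k, hk, hkb⟩ := hto b
  refine ⟨⟨k⁻¹ * g, mul_mem (inv_mem hk) hg⟩, ?_⟩
  change (k⁻¹ * g) a = b
  rw [mul_apply, hga, ← hkb, inv_eq_iff_eq]

/-- A transitive group of degree `< 2 q` containing a `q`-cycle is primitive. -/
theorem isPreprimitive {q : ℕ} [Fact q.Prime] (y : Perm α) (hy : y.IsCycle)
    (hyq : y.support.card = q) (hd : Fintype.card α < 2 * q)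
    (H : Subgroup (Perm α)) (hyH : y ∈ H) [IsPretransitive H α] : IsPreprimitive H α := by
  obtain ⟨a, ha⟩ : ∃ a, y a ≠ a := by obtain ⟨b, hb, -⟩ := hy; exact ⟨b, hb⟩
  have hyq1 : y ^ q = 1 := by rw [← hyq, ← hy.orderOf]; exact pow_orderOf_eq_one y
  set Y : H := ⟨y, hyH⟩
  refine IsPreprimitive.of_isTrivialBlock_base a fun {B} haB hB => ?_
  classical
  haveI : Finite B := inferInstance
  by_cases hyB : Y • B = B
  · -- the block contains the whole cycle
    right
    by_contra hne
    obtain ⟨b, hb⟩ := (Set.ne_univ_iff_exists_notMem B).1 hne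
    obtain ⟨g, hg⟩ := exists_smul_eq H a b
    have hdis : Disjoint (g • B) B := (hB.smul_eq_or_disjoint g).resolve_left fun h =>
      hb (h ▸ hg ▸ Set.smul_mem_smul_set haB)
    have h1 : q ≤ B.ncard := by
      have hpow : ∀ i : ℕ, (y ^ i) a ∈ B := by
        intro i
        have hmem : ∀ i : ℕ, (Y ^ i) • B = B := by
          intro i
          induction i with
          | zero => simp
          | succ i ih => rw [pow_succ, mul_smul, hyB, ih]
        have h := Set.smul_mem_smul_set (a := Y ^ i) haB
        rw [hmem i] at h
        have e : (Y ^ i) • a = (y ^ i) a := by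
          rw [Subgroup.smul_def, SubmonoidClass.coe_pow]
          rfl
        rwa [e] at h
      calc q = Nat.card (Fin q) := by simp
        _ ≤ B.ncard := by
          rw [← Nat.card_coe_set_eq]
          exact Nat.card_le_card_of_injective (fun i : Fin q => (⟨(y ^ (i : ℕ)) a, hpow i⟩ : B))
            fun i j h => pow_apply_inj hyq1 ha (congrArg Subtype.val h)
    have h2 : (g • B).ncard + B.ncard ≤ Fintype.card α := by
      rw [← Set.ncard_union_eq hdis, ← Nat.card_eq_fintype_card]
      exact Set.ncard_le_card _
    have h3 : (g • B).ncard = B.ncard := Set.ncard_smul_set g B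
    omega
  · left
    by_contra hns
    obtain ⟨b, hb, hba⟩ : ∃ b ∈ B, b ≠ a := by
      by_contra! h
      exact hns fun u hu v hv => (h u hu).trans (h v hv).symm
    -- the translates of `B` under `y` are disjoint
    have hstab : ∀ k : ℕ, (Y ^ k) • B = B → q ∣ k := by
      intro k hk
      by_contra hqk
      have hcop : Nat.Coprime k (orderOf Y) := by
        rw [← Subgroup.orderOf_coe, hy.orderOf, hyq, Nat.coprime_comm]
        exact (Nat.Prime.coprime_iff_not_dvd Fact.out).2 hqk
      obtain ⟨m, hm⟩ := exists_pow_eq_self_of_coprime hcop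
      apply hyB
      rw [← hm]
      have : ∀ j : ℕ, ((Y ^ k) ^ j) • B = B := by
        intro j
        induction j with
        | zero => simp
        | succ j ih => rw [pow_succ, mul_smul, hk, ih]
      exact this m
    let f : Fin q × ({a, b} : Finset α) → α := fun u => (y ^ (u.1 : ℕ)) u.2
    have hfB : ∀ u : ({a, b} : Finset α), (u : α) ∈ B := fun u => by
      have := u.2
      simp only [Finset.mem_insert, Finset.mem_singleton] at this
      rcases this with h | h <;> rw [h] <;> assumption
    have hf : Function.Injective f := by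
      have hmem : ∀ (i : ℕ) (u : ({a, b} : Finset α)), (y ^ i) u ∈ (Y ^ i) • B := by
        intro i u
        have h := Set.smul_mem_smul_set (a := Y ^ i) (hfB u)
        have e : (Y ^ i) • (u : α) = (y ^ i) u := by
          rw [Subgroup.smul_def, SubmonoidClass.coe_pow]
          rfl
        rwa [e] at h
      rintro ⟨i, u⟩ ⟨j, v⟩ huv
      have hi := i.isLt
      have hj := j.isLt
      wlog hle : (i : ℕ) ≤ j generalizing i j u v
      · exact (this j v i u huv.symm hj hi (le_of_not_ge hle)).symm
      have heq : (Y ^ (i : ℕ)) • B = (Y ^ (j : ℕ)) • B := by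
        rcases hB.smul_eq_smul_or_disjoint (Y ^ (i : ℕ)) (Y ^ (j : ℕ)) with h | h
        · exact h
        · have e : (y ^ (i : ℕ)) (u : α) = (y ^ (j : ℕ)) (v : α) := huv
          exact absurd (e.symm ▸ hmem j v) (Set.disjoint_left.1 h (hmem i u))
      have hji : (Y ^ ((j : ℕ) - i)) • B = B := by
        have h := congrArg (fun S => (Y ^ (i : ℕ))⁻¹ • S) heq
        simp only [inv_smul_smul, smul_smul, inv_mul_cancel, one_smul] at h
        rw [pow_sub _ hle, ← (Commute.refl Y).pow_pow i j |>.inv_left |>.eq]
        exact h.symm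
      have hdvd := hstab _ hji
      have hij : i = j := by
        refine Fin.ext ?_
        rcases Nat.eq_zero_or_pos ((j : ℕ) - i) with h | h
        · omega
        · have := Nat.le_of_dvd h hdvd; omega
      subst hij
      simp only [f, EmbeddingLike.apply_eq_iff_eq] at huv
      exact Prod.ext rfl (Subtype.ext huv)
    have h1 := Fintype.card_le_of_injective f hf
    rw [Fintype.card_prod, Fintype.card_fin, Fintype.card_coe, Finset.card_pair hba.symm] at h1
    omega

/-- Jordan: a primitive group with a cycle of prime length fixing at least three points. -/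
theorem alternating_le {p : ℕ} (hp : p.Prime) (H : Subgroup (Perm α)) [IsPreprimitive H α]
    {x : Perm α} (hx : x.IsCycle) (hxp : x.support.card = p) (hd : p + 3 ≤ Fintype.card α)
    (hxH : x ∈ H) : alternatingGroup α ≤ H :=
  Cfsg.Agent.S0713.result H ‹_› hp (by have := hp.two_le; omega) hd hx hxp hxH

end Cfsg.Agent.Lib.AltPair.Generic
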