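import Cfsg.Agent.Lib.AltPair.Small
import Cfsg.Agent.Lib.Alternating.Basic
import Cfsg.Agent.Lib.Involutions.IndexTwo
import Cfsg.Agent.Lib.Linear.ProjLine

/-!
# Two elements of large prime orders generate an alternating group
-/

set_option autoImplicit false

namespace Cfsg.Agent.Lib.AltPair.Main

open Equiv Equiv.Perm MulAction

/-- A subgroup of order `30` of an alternating group of degree six does not exist. -/
theorem not_order_thirty {α : Type*} [Fintype α] [DecidableEq α] (hα : Fintype.card α = 6)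
    (H : Subgroup (Perm α)) (hH : Nat.card H = 30) {x y : Perm α} (hx : x ∈ H) (hy : y ∈ H)
    (hx3 : orderOf x = 3) (hy5 : orderOf y = 5) : False := by
  classical
  obtain ⟨L, hL⟩ := Cfsg.Agent.Lib.Involutions.IndexTwo.exists_index_two_of_mod_four (G := H) (by rw [hH])
  haveI := Subgroup.normal_of_index_eq_two hL
  have hodd : ∀ u : H, ¬ 2 ∣ orderOf u → u ∈ L := by
    intro u hu
    have h2 : u ^ 2 ∈ L := hL ▸ L.pow_index_mem u
    obtain ⟨j, hj⟩ : ∃ j, orderOf u = 2 * j + 1 := ⟨orderOf u / 2, by omega⟩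
    have h3 : u ^ (2 * (j + 1)) = u := by
      rw [show 2 * (j + 1) = orderOf u + 1 by omega, pow_succ, pow_orderOf_eq_one, one_mul]
    rw [← h3, pow_mul]
    exact pow_mem h2 _
  have hxL : (⟨x, hx⟩ : H) ∈ L := hodd _ (by rw [← Subgroup.orderOf_coe]; simp [hx3])
  have hyL : (⟨y, hy⟩ : H) ∈ L := hodd _ (by rw [← Subgroup.orderOf_coe]; simp [hy5])
  have hLc : Nat.card L = 15 := by
    have := Subgroup.card_mul_index L
    rw [hL, hH] at this
    omega
  set yl : L := ⟨⟨y, hy⟩, hyL⟩
  set xl : L := ⟨⟨x, hx⟩, hxL⟩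
  have hyl : orderOf yl = 5 := by
    rw [← Subgroup.orderOf_coe, ← Subgroup.orderOf_coe]; exact hy5
  have hxl : orderOf xl = 3 := by
    rw [← Subgroup.orderOf_coe, ← Subgroup.orderOf_coe]; exact hx3
  have hn : (Subgroup.zpowers yl).Normal := by
    refine Subgroup.normal_of_index_eq_minFac_card ?_
    have := Subgroup.card_mul_index (Subgroup.zpowers yl)
    rw [Nat.card_zpowers, hyl, hLc] at this
    rw [hLc, show (15 : ℕ).minFac = 3 by norm_num]
    omega
  obtain ⟨r, hr⟩ := hn.conj_mem yl (Subgroup.mem_zpowers _) xl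
  have hr' : xl * yl * xl⁻¹ = yl ^ r := hr.symm
  have hiter : ∀ j : ℕ, xl ^ j * yl * (xl ^ j)⁻¹ = yl ^ (r ^ j) := by
    intro j
    induction j with
    | zero => simp
    | succ j ih =>
      calc xl ^ (j + 1) * yl * (xl ^ (j + 1))⁻¹ = MulAut.conj xl (xl ^ j * yl * (xl ^ j)⁻¹) := by
            rw [MulAut.conj_apply, pow_succ']; group
        _ = (MulAut.conj xl yl) ^ (r ^ j) := by rw [ih, map_zpow]
        _ = _ := by rw [MulAut.conj_apply, hr', ← zpow_mul, ← pow_succ']
  have hcom : Commute xl yl := by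
    have h3 := hiter 3
    rw [← hxl, pow_orderOf_eq_one, one_mul, inv_one, mul_one, hxl] at h3
    have hd : (5 : ℤ) ∣ r ^ 3 - 1 := by
      have : (orderOf yl : ℤ) ∣ r ^ 3 - 1 := by
        rw [orderOf_dvd_iff_zpow_eq_one, zpow_sub, zpow_one, ← h3, mul_inv_cancel]
      rwa [hyl] at this
    have hr1 : (5 : ℤ) ∣ r - 1 := by
      have h5 : ∀ t : ZMod 5, t ^ 3 = 1 → t = 1 := by decide
      have h6 : (((r ^ 3 - 1 : ℤ)) : ZMod 5) = 0 := (ZMod.intCast_zmod_eq_zero_iff_dvd _ 5).2 hd
      push_cast at h6
      have h7 := h5 _ (sub_eq_zero.1 h6)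
      refine (ZMod.intCast_zmod_eq_zero_iff_dvd _ 5).1 ?_
      push_cast
      rw [h7, sub_self]
    have h8 : yl ^ (r - 1) = 1 := orderOf_dvd_iff_zpow_eq_one.1 (by rw [hyl]; exact_mod_cast hr1)
    rw [zpow_sub, zpow_one, mul_inv_eq_one] at h8
    rw [h8] at hr'
    exact mul_inv_eq_iff_eq_mul.1 hr'
  have h15 : orderOf (x * y) = 15 := by
    have := hcom.orderOf_mul_eq_mul_orderOf_of_coprime (by rw [hxl, hyl]; norm_num)
    rw [hxl, hyl, ← Subgroup.orderOf_coe, ← Subgroup.orderOf_coe] at this
    exact this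
  -- no permutation of six points has order fifteen
  set z := x * y
  have hlcm := z.lcm_cycleType
  have hsum : z.cycleType.sum ≤ 6 := by
    rw [z.sum_cycleType, ← hα]; exact Finset.card_le_univ _
  have hparts : ∀ a ∈ z.cycleType, a = 3 ∨ a = 5 := by
    intro a ha
    have h1 : a ∣ 15 := by rw [← h15, ← hlcm]; exact Multiset.dvd_lcm ha
    have h2 : a ≤ 6 := le_trans (Multiset.le_sum_of_mem ha) hsum
    have h3 := Equiv.Perm.two_le_of_mem_cycleType ha
    revert h1
    interval_cases a <;> norm_num
  have h5mem : 5 ∈ z.cycleType := by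
    by_contra h
    have : z.cycleType.lcm ∣ 3 := Multiset.lcm_dvd.2 fun a ha => by
      rcases hparts a ha with rfl | rfl
      · exact dvd_rfl
      · exact absurd ha h
    rw [hlcm, h15] at this
    norm_num at this
  obtain ⟨t, ht⟩ := Multiset.exists_cons_of_mem h5mem
  have h3mem : 3 ∈ t := by
    by_contra h
    have : z.cycleType.lcm ∣ 5 := Multiset.lcm_dvd.2 fun a ha => by
      rw [ht] at ha
      rcases Multiset.mem_cons.1 ha with rfl | ha
      · exact dvd_rfl
      · rcases hparts a (ht ▸ Multiset.mem_cons_of_mem ha) with rfl | rfl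
        · exact absurd ha h
        · exact dvd_rfl
    rw [hlcm, h15] at this
    norm_num at this
  have := Multiset.le_sum_of_mem h3mem
  rw [ht, Multiset.sum_cons] at hsum
  omega

/-- Transitive even groups of degree six containing elements of orders three and five. -/
theorem degree_six {α : Type*} [Fintype α] [DecidableEq α] (hα : Fintype.card α = 6)
    (H : Subgroup (Perm α)) [IsPretransitive H α] (hev : H ≤ alternatingGroup α) {x y : Perm α}
    (hx : x ∈ H) (hy : y ∈ H) (hx3 : orderOf x = 3) (hy5 : orderOf y = 5) :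
    Nonempty (H ≃* alternatingGroup (Fin 5)) ∨ H = alternatingGroup α := by
  classical
  haveI : Nontrivial α := Fintype.one_lt_card_iff_nontrivial.1 (by omega)
  haveI : IsSimpleGroup (alternatingGroup α) :=
    alternatingGroup.isSimpleGroup (by rw [Nat.card_eq_fintype_card]; omega)
  set K := H.subgroupOf (alternatingGroup α) with hK
  by_cases htop : K = ⊤
  · right
    exact le_antisymm hev (Subgroup.subgroupOf_eq_top.1 htop)
  left
  have hA : Nat.card (alternatingGroup α) = 360 := by
    have := two_mul_nat_card_alternatingGroup (α := α)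
    have h720 : Nat.card (Perm α) = 720 := by
      rw [Nat.card_perm, Nat.card_eq_fintype_card, hα]; rfl
    omega
  have hKH : Nat.card K = Nat.card H := Nat.card_congr (Subgroup.subgroupOfEquivOfLe hev).toEquiv
  have hmul := Subgroup.card_mul_index K
  rw [hKH, hA] at hmul
  have h6 : 6 ∣ Nat.card H := by
    have a : α := Classical.arbitrary α
    have := (stabilizer H a).index_dvd_card
    rwa [index_stabilizer_of_transitive, Nat.card_eq_fintype_card, hα] at this
  have h5 : 5 ∣ Nat.card H := by
    rw [← hy5, ← Subgroup.orderOf_mk y hy]; exact orderOf_dvd_natCard _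
  have h30 : 30 ∣ Nat.card H := Nat.Coprime.mul_dvd_of_dvd_of_dvd (m := 6) (n := 5) (by norm_num) h6 h5
  have hge := Cfsg.Agent.Lib.Alternating.index_ge_alt (by omega) K htop
  have hne30 : Nat.card H ≠ 30 := fun h => not_order_thirty hα H h hx hy hx3 hy5
  have hcard : Nat.card H = 60 ∧ K.index = 6 := by
    obtain ⟨c, hc⟩ := h30
    rw [hα] at hge
    have hcpos : 0 < c := by
      rcases Nat.eq_zero_or_pos c with h | h
      · rw [hc, h] at hmul; omega
      · exact h
    have hc2 : c ≤ 2 := by nlinarith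
    interval_cases c
    · omega
    · exact ⟨hc, by rw [hc] at hmul; omega⟩
  -- restrict the action on cosets to the cosets other than `K`
  set b : alternatingGroup α ⧸ K := ((1 : alternatingGroup α) : _ ⧸ K)
  let φ := MulAction.toPermHom (alternatingGroup α) (alternatingGroup α ⧸ K)
  have hφ : Function.Injective φ := by
    rw [← MonoidHom.ker_eq_bot_iff]
    refine (Subgroup.Normal.eq_bot_or_eq_top inferInstance).resolve_right fun h => htop ?_
    rw [eq_top_iff]
    intro u _
    have : φ u = 1 := MonoidHom.mem_ker.1 (h ▸ Subgroup.mem_top u)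
    have h1 := congrArg (fun σ => σ b) this
    change u • b = b at h1
    change ((u * 1 : alternatingGroup α) : alternatingGroup α ⧸ K) = ((1 : alternatingGroup α) : _ ⧸ K) at h1
    rw [QuotientGroup.eq, mul_one, mul_one] at h1
    exact inv_mem_iff.1 h1
  have hfix : ∀ k : K, φ (k : alternatingGroup α) b = b := fun k => by
    change ((k : alternatingGroup α) * 1 : alternatingGroup α) = ((1 : alternatingGroup α) : _ ⧸ K)
    rw [QuotientGroup.eq, mul_one, mul_one]
    exact inv_mem k.2
  have hpres : ∀ (k : K) (c : alternatingGroup α ⧸ K), φ (k : alternatingGroup α) c ≠ b ↔ c ≠ b :=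
    fun k c => not_congr ⟨fun h => (φ (k : alternatingGroup α)).injective (h.trans (hfix k).symm),
      fun h => h ▸ hfix k⟩
  let ψ : K →* Perm {c : alternatingGroup α ⧸ K // c ≠ b} :=
    MonoidHom.mk' (fun k => (φ (k : alternatingGroup α)).subtypePerm (hpres k)) fun k l => by
      refine Equiv.ext fun c => Subtype.ext ?_
      simp only [Subgroup.coe_mul, map_mul]
      rfl
  have hψ : Function.Injective ψ := by
    intro k l hkl
    refine Subtype.ext (hφ (Equiv.ext fun c => ?_))
    by_cases hc : c = b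
    · rw [hc, hfix, hfix]
    · exact congrArg Subtype.val (Equiv.congr_fun hkl ⟨c, hc⟩)
  have hcard5 : Nat.card {c : alternatingGroup α ⧸ K // c ≠ b} = 5 := by
    haveI := Fintype.ofFinite (alternatingGroup α ⧸ K)
    have h7 : Fintype.card (alternatingGroup α ⧸ K) = 6 := by
      rw [← Nat.card_eq_fintype_card]; exact hcard.2
    rw [Nat.card_eq_fintype_card, Fintype.card_subtype_compl, Fintype.card_subtype_eq, h7]
  obtain ⟨e⟩ : Nonempty ({c : alternatingGroup α ⧸ K // c ≠ b} ≃ Fin 5) :=
    ⟨Finite.equivFinOfCardEq hcard5⟩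
  obtain ⟨i⟩ := Cfsg.Agent.Lib.Linear.nonempty_mulEquiv_alternating (k := 5) (by norm_num)
    (e.permCongrHom.toMonoidHom.comp ψ) (e.permCongrHom.injective.comp hψ) (by
      rw [hKH, hcard.1]; norm_num [Nat.factorial])
  exact ⟨(Subgroup.subgroupOfEquivOfLe hev).symm.trans i⟩

/-- The main statement, with the arithmetical conditions on the two primes as hypotheses. -/
theorem closure_pair (m p q : ℕ) (hp : p.Prime) (hq : q.Prime) (hm : m ≤ 2 * p) (hpq : p < q)
    (hqm : q ≤ m)
    (h1 : p + 3 ≤ q ∨ p = 3 ∨ (p = 5 ∧ q = 7) ∨ (p = 11 ∧ q = 13))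
    (h2 : m = 2 * p → q + 3 ≤ 2 * p ∨ (p = 3 ∧ q = 5))
    (x y : alternatingGroup (Fin m)) (hx : orderOf x = p) (hy : orderOf y = q) :
    ∃ d : ℕ, 5 ≤ d ∧ Nonempty (Subgroup.closure ({x, y} : Set (alternatingGroup (Fin m))) ≃*
      alternatingGroup (Fin d)) := by
  classical
  haveI : Fact p.Prime := ⟨hp⟩
  haveI : Fact q.Prime := ⟨hq⟩
  have hp2 := hp.two_le
  have hq5 : 5 ≤ q := by
    rcases Nat.lt_or_ge q 5 with h | h
    · interval_cases q <;> norm_num at hq <;> omega
    · exact h
  set σ : Perm (Fin m) := (x : Perm (Fin m))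
  set τ : Perm (Fin m) := (y : Perm (Fin m))
  have hσ : orderOf σ = p := by rw [← hx]; exact Subgroup.orderOf_coe x
  have hτ : orderOf τ = q := by rw [← hy]; exact Subgroup.orderOf_coe y
  set D : Finset (Fin m) := σ.support ∪ τ.support with hD
  have hmem : ∀ {s : Perm (Fin m)}, s.support ⊆ D → ∀ a, s a ∈ D ↔ a ∈ D := by
    intro s hs a
    by_cases ha : s a = a
    · rw [ha]
    · exact iff_of_true (hs (apply_mem_support.2 (mem_support.2 ha))) (hs (mem_support.2 ha))
  set X : Perm {a // a ∈ D} := σ.subtypePerm (hmem Finset.subset_union_left)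
  set Y : Perm {a // a ∈ D} := τ.subtypePerm (hmem Finset.subset_union_right)
  have hX : ofSubtype X = σ := ofSubtype_subtypePerm _ fun a ha =>
    Finset.subset_union_left (mem_support.2 ha)
  have hY : ofSubtype Y = τ := ofSubtype_subtypePerm _ fun a ha =>
    Finset.subset_union_right (mem_support.2 ha)
  have hXp : orderOf X = p := by rw [← orderOf_injective ofSubtype ofSubtype_injective, hX, hσ]
  have hYq : orderOf Y = q := by rw [← orderOf_injective ofSubtype ofSubtype_injective, hY, hτ]
  set d := Fintype.card {a // a ∈ D} with hd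
  have hdm : d ≤ m := (Fintype.card_subtype_le _).trans_eq (Fintype.card_fin m)
  obtain ⟨hYc, hYs, -⟩ := Small.cycleType_of_orderOf (n := d) hq (by omega) rfl hYq
  have hqd : q ≤ d := hYs ▸ Finset.card_le_univ _
  have hcov : ∀ a : {a // a ∈ D}, X a ≠ a ∨ Y a ≠ a := by
    rintro ⟨a, ha⟩
    rcases Finset.mem_union.1 ha with h | h
    · exact Or.inl fun e => mem_support.1 h (congrArg Subtype.val e)
    · exact Or.inr fun e => mem_support.1 h (congrArg Subtype.val e)
  set H := Subgroup.closure ({X, Y} : Set (Perm {a // a ∈ D}))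
  have hXH : X ∈ H := Subgroup.subset_closure (by simp)
  have hYH : Y ∈ H := Subgroup.subset_closure (by simp)
  haveI : IsPretransitive H {a // a ∈ D} := Generic.isPretransitive (p := p) X Y
    (orderOf_dvd_iff_pow_eq_one.1 hXp.dvd) hYc hYs hcov (by omega) H hXH hYH
  haveI : IsPreprimitive H {a // a ∈ D} := Generic.isPreprimitive Y hYc hYs (by omega) H hYH
  have hev : H ≤ alternatingGroup {a // a ∈ D} := by
    rw [Subgroup.closure_le]
    rintro s (rfl | rfl) <;> rw [SetLike.mem_coe, mem_alternatingGroup, ← sign_ofSubtype]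
    · rw [hX]; exact mem_alternatingGroup.1 x.2
    · rw [hY]; exact mem_alternatingGroup.1 y.2
  -- the group generated by `x` and `y` is `H`
  obtain ⟨iso⟩ : Nonempty (Subgroup.closure ({x, y} : Set (alternatingGroup (Fin m))) ≃* H) := by
    refine ⟨((Subgroup.equivMapOfInjective _ (alternatingGroup (Fin m)).subtype Subtype.val_injective).trans
      (MulEquiv.subgroupCongr ?_)).trans
      (Subgroup.equivMapOfInjective H ofSubtype ofSubtype_injective).symm⟩
    rw [MonoidHom.map_closure, MonoidHom.map_closure, Set.image_pair, Set.image_pair, hX, hY]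
    rfl
  have fin : alternatingGroup {a // a ∈ D} ≤ H → ∃ d : ℕ, 5 ≤ d ∧
      Nonempty (Subgroup.closure ({x, y} : Set (alternatingGroup (Fin m))) ≃* alternatingGroup (Fin d)) :=
    fun h => ⟨d, by omega, ⟨(iso.trans (MulEquiv.subgroupCongr (le_antisymm hev h))).trans
      (Cfsg.Agent.Lib.Alternating.altEquivOfCard (by rw [Fintype.card_fin]))⟩⟩
  -- one or two cycles
  obtain ⟨k, hk⟩ := cycleType_prime_order (σ := X) (hXp ▸ hp)
  have hXsum : X.support.card = (k + 1) * p := by
    rw [← X.sum_cycleType, hk, Multiset.sum_replicate, hXp, smul_eq_mul]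
  have hXle : (k + 1) * p ≤ d := hXsum ▸ Finset.card_le_univ _
  rcases Nat.eq_zero_or_pos k with hk0 | hk0
  · have hXc : X.IsCycle := by
      rw [← card_cycleType_eq_one, hk, Multiset.card_replicate, hk0]
    have hXs : X.support.card = p := by rw [hXsum, hk0, zero_add, one_mul]
    by_cases hd3 : p + 3 ≤ d
    · exact fin (Generic.alternating_le hp H hXc hXs hd3 hXH)
    by_cases hp3 : p = 3
    · exact fin (alternatingGroup_le_of_isPreprimitive_of_isThreeCycle_mem ‹_›
        (g := X) (card_support_eq_three_iff.1 (hXs.trans hp3)) hXH)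
    rcases h1 with h | h | ⟨h, h'⟩ | ⟨h, h'⟩
    · omega
    · omega
    · exact fin (Small.degree_seven (α := {a // a ∈ D}) (by omega) H hXH hYH (by omega) (by omega))
    · exact fin (Small.degree_thirteen (α := {a // a ∈ D}) (by omega) H hev hXH (by omega))
  · have h2p : 2 * p ≤ (k + 1) * p := Nat.mul_le_mul_right _ (by omega)
    rcases h2 (by omega) with h | ⟨h, h'⟩
    · exact fin (Generic.alternating_le hq H hYc hYs (by omega) hYH)
    · rcases degree_six (α := {a // a ∈ D}) (by omega) H hev hXH hYH (by omega) (by omega) with ⟨⟨e⟩⟩ | e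
      · exact ⟨5, le_rfl, ⟨iso.trans e⟩⟩
      · exact fin e.ge

end Cfsg.Agent.Lib.AltPair.Main
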