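import Cfsg.Agent.Lib.AltPair.ThirteenData

/-!
# Certificates for degree seven

For every seven-cycle `y` of `Fin 7`, a word in `x = (0 1 2 3 4)` and `y` whose square is a three-cycle.
-/

set_option autoImplicit false

namespace Cfsg.Agent.Lib.AltPair.SevenData

open Cfsg.Agent.Lib.AltPair.ThirteenData (img ev encode mkTable)

/-- The code of the cycle `(0 l₁ l₂ ...)`. -/
def cycleCode (l : List ℕ) : ℕ := (((0 :: l).zip (l ++ [0])).map fun q => q.2 * 16 ^ q.1).sum

/-- The table of the powers of `x`. -/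
def fixedLetters : ℕ := 0x6532104000000000652104300000000065104320000000006504321

/-- The table with the letter `0` equal to `y`. -/
def table (c : ℕ) : ℕ := mkTable fixedLetters c

/-- The words. -/
def words : List (List ℕ) :=
  [[1, 3, 0, 3, 0, 1, 0, 0],
  [3, 1, 0, 0, 0, 1, 0],
  [0, 0, 3, 0, 0, 0, 2],
  [0, 3, 0, 2],
  [3, 4, 0, 0, 3, 0, 4, 0],
  [0, 0, 0, 1, 0, 3],
  [0, 4, 0, 2, 0, 1, 2],
  [3, 0, 4, 0, 4, 0, 2, 2],
  [0, 0, 3],
  [4, 0, 2, 0, 0],
  [0, 4, 0, 2, 0, 1],
  [0, 3, 0, 1]]

/-- The square of the word moves exactly three points. -/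
noncomputable def threeTest (tbl : ℕ) (L : List ℕ) : Bool :=
  Nat.beq (((List.range 7).filter fun i => !(Nat.beq (ev tbl L (ev tbl L i)) i)).length) 3

theorem words_ok : (List.permutations' [1, 2, 3, 4, 5, 6]).all
    (fun l => words.any fun L => threeTest (table (cycleCode l)) L) = true := by
  decide +kernel

/-- Every seven-cycle has a suitable word. -/
theorem exists_three (l : List ℕ) (hl : l ∈ List.permutations' [1, 2, 3, 4, 5, 6]) :
    ∃ L ∈ words, threeTest (table (cycleCode l)) L = true := by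
  have h := List.all_eq_true.1 words_ok l hl
  exact List.any_eq_true.1 h

end Cfsg.Agent.Lib.AltPair.SevenData
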