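import Cfsg.Agent.Lib.AltPair.Generic
import Cfsg.Agent.Lib.AltPair.SevenData
import Cfsg.Agent.Lib.AltPair.ThirteenData

/-!
# Primitive groups of degree `p + 2` containing a `p`-cycle, for `p = 5, 11`
-/

set_option autoImplicit false

namespace Cfsg.Agent.Lib.AltPair.Small

open Equiv Equiv.Perm
open Cfsg.Agent.Lib.AltPair.ThirteenData (img encode letter ev mkTable)

/-! ## Codes -/

theorem encode_lt (f : ℕ → ℕ) (n : ℕ) (hf : ∀ i < n, f i < 16) : encode f n < 16 ^ n := by
  induction n with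
  | zero => simp [encode]
  | succ n ih =>
    have h1 := ih fun i hi => hf i (by omega)
    have h2 : f n * 16 ^ n ≤ 15 * 16 ^ n := Nat.mul_le_mul_right _ (by have := hf n (by omega); omega)
    have h3 : encode f (n + 1) = encode f n + f n * 16 ^ n := rfl
    rw [h3, pow_succ]
    omega

theorem img_def (W i : ℕ) : img W i = W / 16 ^ i % 16 := by
  change (W >>> (4 * i)) &&& 15 = _
  rw [Nat.shiftRight_eq_div_pow, show (15 : ℕ) = 2 ^ 4 - 1 by norm_num, Nat.and_two_pow_sub_one_eq_mod,
    pow_mul]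
  norm_num

theorem img_encode (f : ℕ → ℕ) : ∀ n, (∀ i < n, f i < 16) → ∀ i < n, img (encode f n) i = f i := by
  intro n
  induction n with
  | zero => intro _ i hi; omega
  | succ n ih =>
    intro hf i hi
    have hlt := encode_lt f n fun j hj => hf j (by omega)
    have h3 : encode f (n + 1) = encode f n + f n * 16 ^ n := rfl
    rw [img_def, h3]
    rcases Nat.lt_or_ge i n with h | h
    · have e : f n * 16 ^ n = (f n * 16 ^ (n - i - 1) * 16) * 16 ^ i := by
        rw [mul_assoc, mul_assoc, ← pow_succ', ← pow_add]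
        congr 2
        omega
      rw [e, Nat.add_mul_div_right _ _ (by positivity), Nat.add_mul_mod_self_right]
      have := ih (fun j hj => hf j (by omega)) i h
      rwa [img_def] at this
    · obtain rfl : i = n := by omega
      rw [Nat.add_mul_div_right _ _ (by positivity), Nat.div_eq_of_lt hlt, zero_add,
        Nat.mod_eq_of_lt (hf i hi)]

theorem encode_eq_sum (f : ℕ → ℕ) (n : ℕ) :
    encode f n = ((List.range n).map fun i => f i * 16 ^ i).sum := by
  induction n with
  | zero => rfl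
  | succ n ih =>
    rw [List.range_succ, List.map_append, List.sum_append, ← ih]
    simp [encode]

/-- A permutation of `Fin n` as a function on `ℕ`. -/
def natFun {n : ℕ} (σ : Perm (Fin n)) (i : ℕ) : ℕ := if h : i < n then (σ ⟨i, h⟩ : ℕ) else i

/-- The code of a permutation. -/
def code {n : ℕ} (σ : Perm (Fin n)) : ℕ := encode (natFun σ) n

theorem img_code {n : ℕ} (hn : n ≤ 16) (σ : Perm (Fin n)) (i : Fin n) :
    img (code σ) (i : ℕ) = (σ i : ℕ) := by
  rw [code, img_encode _ n (fun j hj => ?_) _ i.isLt]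
  · simp [natFun]
  · simp only [natFun, hj, dite_true]
    omega

theorem code_lt {n : ℕ} (hn : n ≤ 16) (σ : Perm (Fin n)) : code σ < 16 ^ n :=
  encode_lt _ n fun j hj => by simp only [natFun, hj, dite_true]; omega

theorem ev_eq {n : ℕ} (hn : n ≤ 16) (tbl : ℕ) (g : ℕ → Perm (Fin n)) (L : List ℕ)
    (hg : ∀ t ∈ L, letter tbl t = code (g t)) (s : Fin n) :
    ev tbl L (s : ℕ) = (((L.map g).prod) s : ℕ) := by
  induction L with
  | nil => simp [ev]
  | cons t L ih =>
    have e : ev tbl (t :: L) (s : ℕ) = img (letter tbl t) (ev tbl L (s : ℕ)) := rfl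
    rw [e, ih fun u hu => hg u (List.mem_cons_of_mem _ hu), hg t (List.mem_cons_self),
      img_code hn, List.map_cons, List.prod_cons, mul_apply]

theorem code_lt_two_pow {n : ℕ} (hn : n ≤ 16) (σ : Perm (Fin n)) (e : ℕ) (he : e = 64) :
    code σ < 2 ^ e := by
  have h1 : code σ < 16 ^ 16 := Nat.lt_of_lt_of_le (code_lt hn σ) (Nat.pow_le_pow_right (by omega) hn)
  have h2 : (16 : ℕ) ^ 16 = 2 ^ e := by rw [he]; norm_num
  exact h2 ▸ h1

theorem letter_def (T t : ℕ) : letter T t = T / (2 ^ 64) ^ t % 2 ^ 64 := by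
  change (T >>> (64 * t)) &&& (0xffffffffffffffff) = _
  rw [Nat.shiftRight_eq_div_pow, show (0xffffffffffffffff : ℕ) = 2 ^ 64 - 1 by norm_num,
    Nat.and_two_pow_sub_one_eq_mod, pow_mul]

theorem letter_zero (c T : ℕ) (hc : c < 2 ^ 64) : letter (mkTable T c) 0 = c := by
  rw [show mkTable T c = c + T * 2 ^ 64 from rfl, letter_def, pow_zero, Nat.div_one, Nat.add_mul_mod_self_right, Nat.mod_eq_of_lt hc]

theorem letter_succ (c T : ℕ) (hc : c < 2 ^ 64) (t : ℕ) :
    letter (mkTable T c) (t + 1) = letter T t := by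
  rw [show mkTable T c = c + T * 2 ^ 64 from rfl]
  have hp : ((2 : ℕ) ^ 64) ^ (t + 1) = 2 ^ 64 * (2 ^ 64) ^ t := pow_succ' _ _
  rw [letter_def, letter_def, hp, ← Nat.div_div_eq_div_mul,
    Nat.add_mul_div_right _ _ (by positivity), Nat.div_eq_of_lt hc, zero_add]

/-! ## Relabelling -/

theorem cycleType_of_orderOf {n p : ℕ} (hp : p.Prime) (hn : n < 2 * p) {α : Type*} [Fintype α]
    [DecidableEq α] (hα : Fintype.card α = n) {x : Perm α} (hx : orderOf x = p) :
    x.IsCycle ∧ x.support.card = p ∧ x.cycleType = {p} := by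
  have hc : x.IsCycle := isCycle_of_prime_order' (hx ▸ hp) (by omega)
  have hs : x.support.card = p := by rw [← hc.orderOf, hx]
  exact ⟨hc, hs, by rw [hc.cycleType, hs]⟩

theorem exists_relabel {n p : ℕ} (hp : p.Prime) (hn : n < 2 * p) {α : Type*} [Fintype α]
    [DecidableEq α] (hα : Fintype.card α = n) (x : Perm α) (hx : orderOf x = p)
    (xs : Perm (Fin n)) (hxs : orderOf xs = p) :
    ∃ e : α ≃ Fin n, e.permCongrHom x = xs := by
  obtain ⟨e0⟩ : Nonempty (α ≃ Fin n) := ⟨Fintype.equivFinOfCardEq hα⟩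
  have h0 : orderOf (e0.permCongrHom x) = p := by rw [MulEquiv.orderOf_eq, hx]
  obtain ⟨-, -, t0⟩ := cycleType_of_orderOf hp hn (Fintype.card_fin n) h0
  obtain ⟨-, -, ts⟩ := cycleType_of_orderOf hp hn (Fintype.card_fin n) hxs
  obtain ⟨c, hc⟩ := isConj_iff.1 (isConj_iff_cycleType_eq.2 (t0.trans ts.symm))
  refine ⟨e0.trans c, ?_⟩
  rw [← hc]
  ext i
  rfl

/-! ## Degree seven -/

/-- The five-cycle `(0 1 2 3 4)` of `Fin 7`. -/
def x7 : Perm (Fin 7) where
  toFun i := if h : (i : ℕ) < 5 then ⟨((i : ℕ) + 1) % 5, by omega⟩ else i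
  invFun i := if h : (i : ℕ) < 5 then ⟨((i : ℕ) + 4) % 5, by omega⟩ else i
  left_inv := by decide
  right_inv := by decide

theorem orderOf_x7 : orderOf x7 = 5 :=
  haveI := Fact.mk Nat.prime_five
  orderOf_eq_prime (by decide +kernel) (by decide +kernel)

theorem letters_seven : ∀ t : Fin 4,
    letter SevenData.fixedLetters (t : ℕ) = code (x7 ^ ((t : ℕ) + 1)) := by
  decide +kernel

theorem words_seven : ∀ L ∈ SevenData.words, ∀ t ∈ L, t ≤ 4 := by decide +kernel

theorem fin_seven (H : Subgroup (Perm (Fin 7))) (hx : x7 ∈ H) (y : Perm (Fin 7)) (hy : y ∈ H)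
    (hy7 : orderOf y = 7) : ∃ u ∈ H, u.support.card = 3 := by
  classical
  obtain ⟨hyc, hys, -⟩ := cycleType_of_orderOf (n := 7) (by norm_num) (by norm_num) (Fintype.card_fin 7) hy7
  have hmov : ∀ i, y i ≠ i := fun i => mem_support.1
    ((Finset.eq_univ_of_card _ (hys.trans (Fintype.card_fin 7).symm)) ▸ Finset.mem_univ i)
  haveI : Fact (Nat.Prime 7) := ⟨by norm_num⟩
  have hy1 : y ^ 7 = 1 := orderOf_dvd_iff_pow_eq_one.1 hy7.dvd
  set z : ℕ → ℕ := fun i => ((y ^ i) 0 : Fin 7) with hz
  have hz0 : z 0 = 0 := by simp [hz]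
  have hzlt : ∀ i, z i < 7 := fun i => Fin.is_lt _
  have hzinj : ∀ i < 7, ∀ j < 7, z i = z j → i = j := fun i hi j hj h =>
    congrArg Fin.val (Generic.pow_apply_inj (p := 7) hy1 (hmov 0) (a₁ := ⟨i, hi⟩) (a₂ := ⟨j, hj⟩)
      (Fin.ext h))
  have hperm : ((List.range 7).map z).Perm (List.range 7) := by
    refine List.perm_of_nodup_nodup_toFinset_eq ?_ List.nodup_range ?_
    · exact List.Nodup.map_on (fun i hi j hj h =>
        hzinj i (List.mem_range.1 hi) j (List.mem_range.1 hj) h) List.nodup_range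
    · refine Finset.eq_of_subset_of_card_le ?_ ?_
      · intro a ha
        simp only [List.mem_toFinset, List.mem_map] at ha
        obtain ⟨i, -, rfl⟩ := ha
        simpa using hzlt i
      · rw [List.toFinset_card_of_nodup List.nodup_range, List.toFinset_card_of_nodup
          (List.Nodup.map_on (fun i hi j hj h =>
            hzinj i (List.mem_range.1 hi) j (List.mem_range.1 hj) h) List.nodup_range)]
        simp
  set l := [z 1, z 2, z 3, z 4, z 5, z 6]
  have hl0 : (List.range 7).map z = 0 :: l := by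
    simp [List.range_succ, l, hz0]
  have hl : l ∈ List.permutations' [1, 2, 3, 4, 5, 6] := by
    rw [List.mem_permutations']
    rw [hl0] at hperm
    exact (List.perm_cons 0).1 (hperm.trans (List.Perm.of_eq (by decide)))
  have hstep : ∀ i, natFun y (z i) = z (i + 1) := fun i => by
    simp [natFun, hz, pow_succ']
  have hz7 : z 7 = 0 := by simp [hz, hy1]
  have hcode : SevenData.cycleCode l = code y := by
    rw [code, encode_eq_sum, ← (hperm.map fun i => natFun y i * 16 ^ i).sum_eq, hl0]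
    simp only [SevenData.cycleCode, l, List.cons_append, List.nil_append, List.zip_cons_cons,
      List.zip_nil_right, List.map_cons, List.map_nil]
    rw [← hz0, hstep, hstep, hstep, hstep, hstep, hstep, hstep, hz7, hz0]
  obtain ⟨L, hLw, hL⟩ := SevenData.exists_three l hl
  let g : ℕ → Perm (Fin 7) := fun t => if t = 0 then y else x7 ^ t
  have hcy : code y < 2 ^ 64 := code_lt_two_pow (n := 7) (by omega) y 64 rfl
  have hg : ∀ t ∈ L, letter (SevenData.table (SevenData.cycleCode l)) t = code (g t) := by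
    intro t ht
    rw [SevenData.table, hcode]
    rcases t with _ | t
    · rw [letter_zero _ _ hcy]
      simp only [g, if_true]
    · have := words_seven L hLw _ ht
      rw [letter_succ _ _ hcy]
      simp only [g, Nat.succ_ne_zero, if_false]
      exact letters_seven ⟨t, by omega⟩
  set u := (L.map g).prod
  have huH : u ∈ H := H.list_prod_mem fun a ha => by
    obtain ⟨t, -, rfl⟩ := List.mem_map.1 ha
    simp only [g]
    split
    · exact hy
    · exact pow_mem hx _
  refine ⟨u * u, mul_mem huH huH, ?_⟩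
  have he : ∀ i : Fin 7, ev (SevenData.table (SevenData.cycleCode l)) L
      (ev (SevenData.table (SevenData.cycleCode l)) L (i : ℕ)) = ((u * u) i : ℕ) := fun i => by
    rw [ev_eq (by norm_num) _ g L hg, ev_eq (by norm_num) _ g L hg, mul_apply]
  simp only [SevenData.threeTest] at hL
  have hlen := Nat.eq_of_beq_eq_true hL
  rw [← hlen, ← List.toFinset_card_of_nodup ((List.nodup_range).filter _),
    ← Finset.card_map Fin.valEmbedding]
  congr 1
  ext i
  simp only [Finset.mem_map, mem_support, List.mem_toFinset, List.mem_filter, List.mem_range,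
    Bool.not_eq_true']
  constructor
  · rintro ⟨j, hj, rfl⟩
    refine ⟨j.isLt, ?_⟩
    rw [Fin.valEmbedding_apply, he, ← Bool.not_eq_true]
    exact fun h => hj (Fin.ext (Nat.eq_of_beq_eq_true h))
  · rintro ⟨hi, hne⟩
    refine ⟨⟨i, hi⟩, fun h => ?_, rfl⟩
    have := he ⟨i, hi⟩
    rw [h] at this
    rw [this] at hne
    simp at hne

/-- A primitive group of degree seven containing elements of orders five and seven. -/
theorem degree_seven {α : Type*} [Fintype α] [DecidableEq α] (hα : Fintype.card α = 7)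
    (H : Subgroup (Perm α)) [MulAction.IsPreprimitive H α] {x y : Perm α} (hx : x ∈ H) (hy : y ∈ H)
    (hx5 : orderOf x = 5) (hy7 : orderOf y = 7) : alternatingGroup α ≤ H := by
  classical
  obtain ⟨e, he⟩ := exists_relabel Nat.prime_five (by norm_num) hα x hx5 x7 orderOf_x7
  obtain ⟨u, ⟨v, hv, rfl⟩, hu3⟩ := fin_seven (H.map e.permCongrHom.toMonoidHom) ⟨x, hx, he⟩
    (e.permCongrHom y) ⟨y, hy, rfl⟩ (by rw [MulEquiv.orderOf_eq, hy7])
  refine alternatingGroup_le_of_isPreprimitive_of_isThreeCycle_mem ‹_› (g := v) ?_ hv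
  rw [← card_support_eq_three_iff, ← hu3]
  refine Finset.card_equiv e fun i => ?_
  simp [Equiv.permCongrHom, Equiv.permCongr_apply]

/-! ## Degree thirteen -/

/-- The eleven-cycle `(0 1 ... 10)` of `Fin 13`. -/
def c13 : Perm (Fin 13) where
  toFun i := if h : (i : ℕ) < 11 then ⟨((i : ℕ) + 1) % 11, by omega⟩ else i
  invFun i := if h : (i : ℕ) < 11 then ⟨((i : ℕ) + 10) % 11, by omega⟩ else i
  left_inv := by decide
  right_inv := by decide

/-- The involution `i ↦ -i` exchanging `11` and `12`. -/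
def v13 : Perm (Fin 13) where
  toFun i := if h : (i : ℕ) < 11 then ⟨(11 - (i : ℕ)) % 11, by omega⟩ else ⟨23 - (i : ℕ), by omega⟩
  invFun i := if h : (i : ℕ) < 11 then ⟨(11 - (i : ℕ)) % 11, by omega⟩ else ⟨23 - (i : ℕ), by omega⟩
  left_inv := by decide
  right_inv := by decide

theorem orderOf_c13 : orderOf c13 = 11 :=
  haveI : Fact (Nat.Prime 11) := ⟨by norm_num⟩
  orderOf_eq_prime (by decide +kernel) (by decide +kernel)

theorem letters_thirteen : ∀ t : Fin 11, letter ThirteenData.fixedLetters (t : ℕ) =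
    code (if (t : ℕ) = 0 then v13 else c13 ^ (t : ℕ)) := by
  decide +kernel

theorem words_thirteen : ∀ L ∈ [] :: ThirteenData.words, ∀ t ∈ L, t ≤ 11 := by decide +kernel

theorem pow_zero_apply : ∀ i : Fin 13, (i : ℕ) < 11 →
    (c13 ^ (i : ℕ)) 0 = i ∧ (c13⁻¹ ^ (i : ℕ)) 0 = v13 i := by
  decide +kernel

theorem gen_spec : ∀ (f : ℕ) (pts : List ℕ) (k : ℕ) (w : ℕ → ℕ), pts.length ≤ f → pts.Nodup →
    (∀ i ∈ pts, w i ∈ pts) → (∀ i ∈ pts, w (w i) = i) → pts.countP (fun i => w i == i) ≤ k →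
    (pts.map fun i => w i * 16 ^ i).sum ∈ ThirteenData.gen f pts k := by
  intro f
  induction f with
  | zero =>
    intro pts k w hlen _ _ _ _
    obtain rfl : pts = [] := List.length_eq_zero_iff.1 (by omega)
    simp [ThirteenData.gen]
  | succ f ih =>
    intro pts k w hlen hnd hcl hinv hk
    rcases pts with _ | ⟨a, r⟩
    · simp [ThirteenData.gen]
    rw [List.nodup_cons] at hnd
    rw [List.length_cons] at hlen
    simp only [ThirteenData.gen, List.mem_append, List.map_cons, List.sum_cons, List.mem_flatMap]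
    have hinj : ∀ i ∈ a :: r, ∀ j ∈ a :: r, w i = w j → i = j := fun i hi j hj h => by
      rw [← hinv i hi, h, hinv j hj]
    by_cases ha : w a = a
    · left
      rw [List.countP_cons, if_pos (by simp [ha])] at hk
      rw [if_pos (by omega), List.mem_map]
      refine ⟨_, ih r (k - 1) w (by omega) hnd.2 (fun i hi => ?_)
        (fun i hi => hinv i (List.mem_cons_of_mem _ hi)) (by omega), by rw [ha]⟩
      refine (List.mem_cons.1 (hcl i (List.mem_cons_of_mem _ hi))).resolve_left fun h => ?_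
      exact hnd.1 ((hinj i (List.mem_cons_of_mem _ hi) a List.mem_cons_self (h.trans ha.symm)) ▸ hi)
    · right
      have hb : w a ∈ r := (List.mem_cons.1 (hcl a List.mem_cons_self)).resolve_left ha
      rw [List.countP_cons, if_neg (by simp [ha])] at hk
      have hperm := List.perm_cons_erase hb
      have hmem : ∀ i, i ∈ r.erase (w a) ↔ i ≠ w a ∧ i ∈ r := fun i => hnd.2.mem_erase_iff
      refine ⟨w a, hb, ?_⟩
      rw [List.mem_map]
      refine ⟨_, ih (r.erase (w a)) k w ((List.length_erase_le).trans (by omega)) (hnd.2.erase _)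
        (fun i hi => ?_) (fun i hi => hinv i (List.mem_cons_of_mem _ ((hmem i).1 hi).2)) ?_, ?_⟩
      · obtain ⟨hib, hir⟩ := (hmem i).1 hi
        refine (hmem _).2 ⟨fun h => ?_, ?_⟩
        · exact hnd.1 ((hinj i (List.mem_cons_of_mem _ hir) a List.mem_cons_self h) ▸ hir)
        · refine (List.mem_cons.1 (hcl i (List.mem_cons_of_mem _ hir))).resolve_left fun h => hib ?_
          rw [← hinv i (List.mem_cons_of_mem _ hir), h]
      · exact (List.Sublist.countP_le List.erase_sublist).trans (by omega)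
      · rw [(hperm.map _).sum_eq, List.map_cons, List.sum_cons, hinv a List.mem_cons_self]

theorem code_split {n : ℕ} (σ : Perm (Fin n)) (a b : ℕ) (pts : List ℕ)
    (h : (a :: b :: pts).Perm (List.range n)) :
    code σ = natFun σ a * 16 ^ a + (natFun σ b * 16 ^ b + (pts.map fun i => natFun σ i * 16 ^ i).sum) := by
  rw [code, encode_eq_sum, ← (h.map fun i => natFun σ i * 16 ^ i).sum_eq, List.map_cons, List.map_cons,
    List.sum_cons, List.sum_cons]

theorem range_thirteen :
    (0 :: 11 :: [1, 2, 3, 4, 5, 6, 7, 8, 9, 10, 12]).Perm (List.range 13) := by decide +kernel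

theorem zero_add_split (a b s : ℕ) : a * 16 ^ 0 + (0 * 16 ^ b + s) = a + s := by
  rw [pow_zero, mul_one, zero_mul, zero_add]

theorem sq_eq_one_cases : ∀ t : ZMod 11, t ^ 2 = 1 → t = 1 ∨ t = -1 := by decide +kernel

theorem fin_thirteen (H : Subgroup (Perm (Fin 13))) (hev : H ≤ alternatingGroup (Fin 13))
    (h2 : ∀ a b a' b' : Fin 13, a ≠ b → a' ≠ b' → ∃ h ∈ H, h a = a' ∧ h b = b') (hc : c13 ∈ H) :
    ∃ u ∈ H, orderOf u = 7 := by
  classical
  haveI : Fact (Nat.Prime 11) := ⟨by norm_num⟩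
  obtain ⟨g, hg, hg1, hg2⟩ := h2 11 12 12 11 (by decide) (by decide)
  -- the two-point stabiliser
  let K : Subgroup (Perm (Fin 13)) :=
    H ⊓ (MulAction.stabilizer (Perm (Fin 13)) (11 : Fin 13) ⊓ MulAction.stabilizer (Perm (Fin 13)) (12 : Fin 13))
  have memK : ∀ u, u ∈ K ↔ u ∈ H ∧ u 11 = 11 ∧ u 12 = 12 := fun u => Iff.rfl
  have hcK : c13 ∈ K := (memK _).2 ⟨hc, by decide, by decide⟩
  have hgi1 : g⁻¹ 12 = 11 := by rw [Perm.inv_eq_iff_eq, hg1]
  have hgi2 : g⁻¹ 11 = 12 := by rw [Perm.inv_eq_iff_eq, hg2]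
  have hc'K : g * c13 * g⁻¹ ∈ K := by
    refine (memK _).2 ⟨mul_mem (mul_mem hg hc) (inv_mem hg), ?_, ?_⟩
    · rw [mul_apply, mul_apply, hgi2, show c13 12 = 12 by decide, hg2]
    · rw [mul_apply, mul_apply, hgi1, show c13 11 = 11 by decide, hg1]
  have hsyl : ∀ (k : K), orderOf (k : Perm (Fin 13)) = 11 →
      ∃ P : Sylow 11 K, (P : Subgroup K) = Subgroup.zpowers k := by
    intro k hk
    rw [Subgroup.orderOf_coe] at hk
    have hcard : Nat.card (Subgroup.zpowers k) = 11 := by rw [Nat.card_zpowers, hk]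
    refine ⟨(IsPGroup.of_card (n := 1) (by rw [hcard, pow_one])).toSylow fun hd => ?_,
      IsPGroup.toSylow_coe _ _⟩
    have h1 := Subgroup.card_mul_index (Subgroup.zpowers k)
    have h3 : Nat.card K ∣ Nat.factorial 13 := by
      have := Subgroup.card_subgroup_dvd_card K
      rwa [Nat.card_perm, Nat.card_fin] at this
    rw [hcard] at h1
    obtain ⟨j, hj⟩ := hd
    have h4 : 121 ∣ Nat.factorial 13 := dvd_trans ⟨j, by rw [← h1, hj]; ring⟩ h3
    norm_num [Nat.factorial] at h4
  obtain ⟨P, hP⟩ := hsyl ⟨c13, hcK⟩ orderOf_c13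
  obtain ⟨P', hP'⟩ := hsyl ⟨g * c13 * g⁻¹, hc'K⟩ (by
    change orderOf (MulAut.conj g c13) = 11
    rw [MulEquiv.orderOf_eq, orderOf_c13])
  obtain ⟨d, hd⟩ := MulAction.exists_smul_eq K P P'
  have hdc : d * ⟨c13, hcK⟩ * d⁻¹ ∈ (P' : Subgroup K) := by
    rw [← hd, Sylow.coe_subgroup_smul]
    exact ⟨⟨c13, hcK⟩, by rw [hP]; exact Subgroup.mem_zpowers _, rfl⟩
  rw [hP'] at hdc
  obtain ⟨r, hr⟩ := hdc
  have hr' : (g * c13 * g⁻¹) ^ r = (d : Perm (Fin 13)) * c13 * (d : Perm (Fin 13))⁻¹ := by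
    have := congrArg Subtype.val hr
    simpa using this
  obtain ⟨hdH, hd11, hd12⟩ := (memK _).1 d.2
  set n := g⁻¹ * (d : Perm (Fin 13)) with hn
  have hnc : n * c13 * n⁻¹ = c13 ^ r := by
    have h1 : (g * c13 * g⁻¹) ^ r = g * c13 ^ r * g⁻¹ := conj_zpow
    rw [h1] at hr'
    calc n * c13 * n⁻¹ = g⁻¹ * ((d : Perm (Fin 13)) * c13 * (d : Perm (Fin 13))⁻¹) * g := by
          rw [hn]; group
      _ = _ := by rw [← hr']; group
  have hn11 : n 11 = 12 := by rw [hn, mul_apply, hd11, hgi2]
  have hn12 : n 12 = 11 := by rw [hn, mul_apply, hd12, hgi1]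
  have hnH : n ∈ H := mul_mem (inv_mem hg) hdH
  have hiter : ∀ j : ℕ, n ^ j * c13 * (n ^ j)⁻¹ = c13 ^ (r ^ j) := by
    intro j
    induction j with
    | zero => simp
    | succ j ih =>
      calc n ^ (j + 1) * c13 * (n ^ (j + 1))⁻¹ = MulAut.conj n (n ^ j * c13 * (n ^ j)⁻¹) := by
            rw [MulAut.conj_apply, pow_succ']; group
        _ = (MulAut.conj n c13) ^ (r ^ j) := by rw [ih, map_zpow]
        _ = _ := by rw [MulAut.conj_apply, hnc, ← zpow_mul, ← pow_succ']
  have hswap : ∀ j : ℕ, (n ^ (2 * j)) 11 = 11 ∧ (n ^ (2 * j)) 12 = 12 := by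
    intro j
    induction j with
    | zero => simp
    | succ j ih =>
      rw [show 2 * (j + 1) = 1 + 1 + 2 * j by ring, pow_add, pow_add, pow_one]
      simp only [mul_apply, ih.1, ih.2, hn11, hn12, and_self]
  -- pass to the `2`-part
  set s := ordCompl[2] (orderOf n) with hs
  have hsodd : s % 2 = 1 := by
    have := Nat.not_dvd_ordCompl Nat.prime_two (orderOf_pos n).ne'
    omega
  set n' := n ^ s with hn'
  set R := r ^ s with hR
  have hn'c : n' * c13 * n'⁻¹ = c13 ^ R := hiter s
  have hn'11 : n' 11 = 12 ∧ n' 12 = 11 := by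
    obtain ⟨j, hj⟩ : ∃ j, s = 1 + 2 * j := ⟨s / 2, by omega⟩
    rw [hn', hj, pow_add, pow_one]
    simp only [mul_apply, (hswap j).1, (hswap j).2, hn11, hn12, and_self]
  set k := (orderOf n).factorization 2
  have hn'k : n' ^ 2 ^ k = 1 := by
    rw [hn', ← pow_mul, mul_comm, Nat.ordProj_mul_ordCompl_eq_self, pow_orderOf_eq_one]
  have hR2 : (R : ZMod 11) = 1 ∨ (R : ZMod 11) = -1 := by
    have h1 := hiter (s * 2 ^ k)
    rw [pow_mul, ← hn', hn'k, one_mul, inv_one, mul_one, pow_mul, ← hR] at h1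
    have h2 : (orderOf c13 : ℤ) ∣ R ^ 2 ^ k - 1 := by
      rw [orderOf_dvd_iff_zpow_eq_one, zpow_sub, zpow_one, ← h1, mul_inv_cancel]
    rw [orderOf_c13, ← ZMod.intCast_zmod_eq_zero_iff_dvd] at h2
    push_cast at h2
    have h3 : (R : ZMod 11) ^ 2 ^ k = 1 := sub_eq_zero.1 h2
    have h0 : (R : ZMod 11) ≠ 0 := fun h => by
      rw [h, zero_pow (by positivity)] at h3
      exact zero_ne_one h3
    have h4 : orderOf (R : ZMod 11) ∣ Nat.gcd (2 ^ k) 10 :=
      Nat.dvd_gcd (orderOf_dvd_of_pow_eq_one h3)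
        (orderOf_dvd_of_pow_eq_one (ZMod.pow_card_sub_one_eq_one h0))
    have h5 : Nat.gcd (2 ^ k) 10 ∣ 2 := by
      have h6 : Nat.Coprime (2 ^ k) 5 := Nat.Coprime.pow_left _ (by norm_num)
      have := Nat.Coprime.gcd_mul_right_cancel_right 2 (h6.symm)
      exact (Nat.Coprime.dvd_of_dvd_mul_right
        (Nat.Coprime.coprime_dvd_left (Nat.gcd_dvd_left _ _) h6)
        (Nat.gcd_dvd_right (2 ^ k) 10 : _ ∣ 2 * 5))
    have h7 : (R : ZMod 11) ^ 2 = 1 := orderOf_dvd_iff_pow_eq_one.1 (h4.trans h5)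
    exact sq_eq_one_cases _ h7
  -- shift so that `0` is fixed
  set a := n' 0
  have ha : (a : ℕ) < 11 := by
    have h11 : a ≠ 11 := fun h => absurd (n'.injective (h.trans hn'11.2.symm)) (by decide)
    have h12 : a ≠ 12 := fun h => absurd (n'.injective (h.trans hn'11.1.symm)) (by decide)
    have h11' : (a : ℕ) ≠ 11 := fun h => h11 (Fin.ext h)
    have h12' : (a : ℕ) ≠ 12 := fun h => h12 (Fin.ext h)
    omega
  set m := (c13 ^ (a : ℕ))⁻¹ * n'
  have hmH : m ∈ H := mul_mem (inv_mem (pow_mem hc _)) (pow_mem hnH _)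
  have hm0 : m 0 = 0 := by
    rw [mul_apply, Perm.inv_eq_iff_eq, (pow_zero_apply a ha).1]
  have hcfix : ∀ j : ℕ, (c13 ^ j) 11 = 11 ∧ (c13 ^ j) 12 = 12 := by
    intro j
    induction j with
    | zero => simp
    | succ j ih => rw [pow_succ', mul_apply, mul_apply, ih.1, ih.2]; decide
  have hm11 : m 11 = 12 ∧ m 12 = 11 := by
    simp only [m, mul_apply, hn'11.1, hn'11.2, Perm.inv_eq_iff_eq]
    exact ⟨(hcfix _).2.symm, (hcfix _).1.symm⟩
  have hmc : m * c13 * m⁻¹ = c13 ^ R := by
    calc m * c13 * m⁻¹ = (c13 ^ (a : ℕ))⁻¹ * (n' * c13 * n'⁻¹) * c13 ^ (a : ℕ) := by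
          simp only [m]; group
      _ = _ := by
          rw [hn'c, mul_assoc, ← zpow_natCast c13 (a : ℕ), zpow_mul_comm, ← mul_assoc,
            inv_mul_cancel, one_mul]
  have hmi : ∀ i : Fin 13, (i : ℕ) < 11 → m i = ((c13 ^ R) ^ (i : ℕ)) 0 := by
    intro i hi
    have hmc' : (c13 ^ R) ^ (i : ℕ) * m = m * c13 ^ (i : ℕ) := by
      rw [← hmc, conj_pow]; group
    have := congrArg (fun σ => σ 0) hmc'
    simp only [mul_apply, hm0, (pow_zero_apply i hi).1] at this
    exact this.symm
  have hzp : ∀ j : ℤ, ((R : ZMod 11) = (j : ZMod 11)) → c13 ^ R = c13 ^ j := fun j h => by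
    rw [zpow_eq_zpow_iff_modEq, orderOf_c13]
    exact (ZMod.intCast_eq_intCast_iff _ _ 11).1 h
  have hhi : ∀ i : Fin 13, ¬ (i : ℕ) < 11 → i = 11 ∨ i = 12 := by decide
  have hv : v13 ∈ H := by
    rcases hR2 with h | h
    · exfalso
      have hm : m = Equiv.swap 11 12 := by
        refine Equiv.ext fun i => ?_
        by_cases hi : (i : ℕ) < 11
        · rw [hmi i hi, hzp 1 (by simpa using h), zpow_one, (pow_zero_apply i hi).1]
          have h11 : i ≠ 11 := fun e => by rw [e] at hi; exact absurd hi (by decide)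
          have h12 : i ≠ 12 := fun e => by rw [e] at hi; exact absurd hi (by decide)
          rw [Equiv.swap_apply_of_ne_of_ne h11 h12]
        · rcases hhi i hi with rfl | rfl
          · rw [hm11.1, Equiv.swap_apply_left]
          · rw [hm11.2, Equiv.swap_apply_right]
      have := Equiv.Perm.mem_alternatingGroup.1 (hev hmH)
      rw [hm, Equiv.Perm.sign_swap (by decide)] at this
      exact absurd this (by decide)
    · have hm : m = v13 := by
        refine Equiv.ext fun i => ?_
        by_cases hi : (i : ℕ) < 11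
        · rw [hmi i hi, hzp (-1) (by simpa using h), zpow_neg_one, (pow_zero_apply i hi).2]
        · rcases hhi i hi with rfl | rfl
          · rw [hm11.1]; decide
          · rw [hm11.2]; decide
      exact hm ▸ hmH
  -- the second involution
  obtain ⟨q, hq, hq1, hq2⟩ := h2 11 12 0 11 (by decide) (by decide)
  set w := q * v13 * q⁻¹ with hw
  have hwH : w ∈ H := mul_mem (mul_mem hq hv) (inv_mem hq)
  have hqi1 : q⁻¹ 0 = 11 := by rw [Perm.inv_eq_iff_eq, hq1]
  have hqi2 : q⁻¹ 11 = 12 := by rw [Perm.inv_eq_iff_eq, hq2]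
  have hw0 : w 0 = 11 := by rw [hw, mul_apply, mul_apply, hqi1, show v13 11 = 12 by decide, hq2]
  have hw11 : w 11 = 0 := by rw [hw, mul_apply, mul_apply, hqi2, show v13 12 = 11 by decide, hq1]
  have hv2 : ∀ i, v13 (v13 i) = i := by decide
  have hv1 : ∀ i, v13 i = i → i = 0 := by decide
  have hw2 : ∀ i, w (w i) = i := fun i => by simp [hw, hv2]
  have hw1 : ∀ i, w i = i → i = q 0 := fun i hi => by
    have : v13 (q⁻¹ i) = q⁻¹ i := by
      have h := congrArg (fun j => q⁻¹ j) hi
      simpa [hw] using h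
    rw [← hv1 _ this]; simp
  set pts : List ℕ := [1, 2, 3, 4, 5, 6, 7, 8, 9, 10, 12] with hpts
  have hmemp : ∀ i : Fin 13, (i : ℕ) ∈ pts ↔ i ≠ 0 ∧ i ≠ 11 := by decide
  have hplt : ∀ i ∈ pts, i < 13 := by decide
  have hnat : ∀ i : Fin 13, natFun w (i : ℕ) = (w i : ℕ) := fun i => by simp [natFun]
  have hcl : ∀ i ∈ pts, natFun w i ∈ pts := by
    intro i hi
    have h13 := hplt i hi
    rw [show natFun w i = (w ⟨i, h13⟩ : ℕ) from hnat ⟨i, h13⟩, hmemp]
    have h' := (hmemp ⟨i, h13⟩).1 hi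
    constructor
    · intro h
      exact h'.2 (w.injective (h.trans hw11.symm))
    · intro h
      exact h'.1 (w.injective (h.trans hw0.symm))
  have hcount : pts.countP (fun i => natFun w i == i) ≤ 1 := by
    rw [List.countP_eq_length_filter]
    refine (List.Subperm.length_le (l₂ := [((q 0 : Fin 13) : ℕ)]) ?_).trans (by simp)
    refine (List.subperm_of_subset ((by decide : pts.Nodup).filter _) ?_)
    intro i hi
    rw [List.mem_filter, beq_iff_eq] at hi
    have h13 := hplt i hi.1
    have h := hw1 ⟨i, h13⟩ (Fin.ext ((hnat ⟨i, h13⟩).symm.trans hi.2))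
    rw [List.mem_singleton, ← h]
  have hgen := gen_spec 11 pts 1 (natFun w) (by decide) (by decide) hcl (fun i hi => by
    have h13 := hplt i hi
    rw [show natFun w i = (w ⟨i, h13⟩ : ℕ) from hnat ⟨i, h13⟩, hnat, hw2]) hcount
  have e0 : natFun w 0 = 11 := (hnat 0).trans (congrArg Fin.val hw0)
  have e11 : natFun w 11 = 0 := (hnat 11).trans (congrArg Fin.val hw11)
  have hcode : code w = 11 + (pts.map fun i => natFun w i * 16 ^ i).sum := by
    rw [code_split w 0 11 pts range_thirteen, e0, e11, zero_add_split]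
  obtain ⟨L, hLw, t0, htest⟩ := ThirteenData.exists_seven _ hgen
  let G : ℕ → Perm (Fin 13) := fun t => if t = 0 then w else if t = 1 then v13 else c13 ^ (t - 1)
  have hcw : code w < 2 ^ 64 := code_lt_two_pow (n := 13) (by omega) w 64 rfl
  have hG : ∀ t ∈ L, letter (ThirteenData.table (pts.map fun i => natFun w i * 16 ^ i).sum) t = code (G t) := by
    intro t ht
    rw [ThirteenData.table, ← hcode]
    rcases t with _ | t
    · rw [letter_zero _ _ hcw]
      simp only [G, if_true]
    · have := words_thirteen L hLw _ ht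
      rw [letter_succ _ _ hcw, letters_thirteen ⟨t, by omega⟩]
      rcases t with _ | t <;> simp [G]
  set u := (L.map G).prod
  have huH : u ∈ H := H.list_prod_mem fun e he => by
    obtain ⟨t, -, rfl⟩ := List.mem_map.1 he
    simp only [G]
    split
    · exact hwH
    · split
      · exact hv
      · exact pow_mem hc _
  simp only [ThirteenData.sevenTest, Bool.and_eq_true, Bool.not_eq_true'] at htest
  obtain ⟨⟨hlt, h7⟩, h1⟩ := htest
  have ht0 : t0 < 13 := by simpa using hlt
  set t1 : Fin 13 := ⟨t0, ht0⟩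
  have hpow : ∀ j : ℕ, (Nat.rec t0 (fun _ ih => ev (ThirteenData.table
      (pts.map fun i => natFun w i * 16 ^ i).sum) L ih) j : ℕ) = ((u ^ j) t1 : ℕ) := by
    intro j
    induction j with
    | zero => simp [t1]
    | succ j ih =>
      change ev _ L _ = _
      rw [ih, ev_eq (by norm_num) _ G L hG, pow_succ', mul_apply]
  have h7' : (u ^ 7) t1 = t1 := Fin.ext (by rw [← hpow 7]; exact Nat.eq_of_beq_eq_true h7)
  have h1' : u t1 ≠ t1 := fun h => by
    rw [show t0 = ((t1 : Fin 13) : ℕ) from rfl, ev_eq (by norm_num) _ G L hG,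
      show (L.map G).prod t1 = t1 from h] at h1
    simp at h1
  haveI : Fact (Nat.Prime 7) := ⟨by norm_num⟩
  have hmp : Function.minimalPeriod u t1 = 7 := by
    refine Function.minimalPeriod_eq_prime ?_ h1'
    change u^[7] t1 = t1
    rw [← Perm.coe_pow, h7']
  have h7o : 7 ∣ orderOf u := by
    rw [← hmp]
    apply Function.IsPeriodicPt.minimalPeriod_dvd
    change u^[orderOf u] t1 = t1
    rw [← Perm.coe_pow, pow_orderOf_eq_one, one_apply]
  exact ⟨u ^ (orderOf u / 7), pow_mem huH _, orderOf_pow_orderOf_div (orderOf_pos u).ne' h7o⟩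

/-- Two-transitivity of a primitive group with a cycle of prime length fixing two points. -/
theorem pairs_transitive {α : Type*} [Fintype α] [DecidableEq α] {p : ℕ} (hp : p.Prime)
    (hα : Fintype.card α = p + 2) (H : Subgroup (Perm α)) [hH : MulAction.IsPreprimitive H α]
    {g : Perm α} (hg : g ∈ H) (hgc : g.IsCycle) (hgp : g.support.card = p) :
    ∀ a b a' b' : α, a ≠ b → a' ≠ b' → ∃ h ∈ H, h a = a' ∧ h b = b' := by
  classical
  haveI : Fact p.Prime := ⟨hp⟩
  let Γ : Set α := ((g.support : Finset α) : Set α)ᶜ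
  have hΓcard : Γ.ncard = 2 := by
    show ((g.support : Set α)ᶜ).ncard = 2
    rw [Set.ncard_compl, Set.ncard_coe_finset, hgp, Nat.card_eq_fintype_card]
    omega
  have hgfix : (⟨g, hg⟩ : H) ∈ fixingSubgroup H Γ := by
    rw [mem_fixingSubgroup_iff]
    intro x hx
    exact Equiv.Perm.notMem_support.1 hx
  have hprim : MulAction.IsPreprimitive (fixingSubgroup H Γ) (SubMulAction.ofFixingSubgroup H Γ) := by
    haveI : MulAction.IsPretransitive (fixingSubgroup H Γ) (SubMulAction.ofFixingSubgroup H Γ) := by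
      refine ⟨fun x y => ?_⟩
      have hx : (x : α) ∈ g.support := not_not.mp x.2
      have hy : (y : α) ∈ g.support := not_not.mp y.2
      obtain ⟨i, hi⟩ := hgc.sameCycle (Equiv.Perm.mem_support.1 hx) (Equiv.Perm.mem_support.1 hy)
      exact ⟨⟨⟨g, hg⟩ ^ i, zpow_mem hgfix i⟩, Subtype.ext hi⟩
    refine MulAction.IsPreprimitive.of_prime_card ?_
    have : Nat.card (SubMulAction.ofFixingSubgroup H Γ) = p := by
      rw [← hgp]
      refine (Nat.card_congr (Equiv.subtypeEquivRight fun x => ?_)).trans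
        ((Nat.card_eq_fintype_card).trans (Fintype.card_coe g.support))
      change x ∈ Γᶜ ↔ x ∈ g.support
      simp [Γ]
    rw [this]; exact hp
  have h := hH.isMultiplyPreprimitive (s := Γ) (n := 1) (by omega)
    (by rw [Nat.card_eq_fintype_card]; have := hp.two_le; omega) hprim
  have h' : MulAction.IsMultiplyPretransitive H α (1 + 2) := inferInstance
  have h2 : MulAction.IsMultiplyPretransitive H α 2 :=
    MulAction.isMultiplyPretransitive_of_le (n := 1 + 2) (by omega)
      (by rw [Nat.card_eq_fintype_card]; have := hp.two_le; omega)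
  intro a b a' b' hab hab'
  obtain ⟨m, h1, h2'⟩ := MulAction.is_two_pretransitive_iff.1 h2 hab hab'
  exact ⟨m, m.2, h1, h2'⟩

/-- A primitive group of even permutations of degree thirteen containing an element of order eleven. -/
theorem degree_thirteen {α : Type*} [Fintype α] [DecidableEq α] (hα : Fintype.card α = 13)
    (H : Subgroup (Perm α)) [MulAction.IsPreprimitive H α] (hev : H ≤ alternatingGroup α) {x : Perm α}
    (hx : x ∈ H) (hx11 : orderOf x = 11) : alternatingGroup α ≤ H := by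
  classical
  obtain ⟨hxc, hxs, -⟩ := cycleType_of_orderOf (n := 13) (by norm_num : Nat.Prime 11) (by norm_num) hα hx11
  have h2 := pairs_transitive (by norm_num) hα H hx hxc hxs
  obtain ⟨e, he⟩ := exists_relabel (by norm_num : Nat.Prime 11) (by norm_num) hα x hx11 c13 orderOf_c13
  obtain ⟨u, ⟨v, hv, rfl⟩, hu7⟩ := fin_thirteen (H.map e.permCongrHom.toMonoidHom)
    (by
      rintro _ ⟨v, hv, rfl⟩
      rw [Equiv.Perm.mem_alternatingGroup]
      change Equiv.Perm.sign (e.permCongr v) = 1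
      rw [Equiv.Perm.sign_permCongr]
      exact Equiv.Perm.mem_alternatingGroup.1 (hev hv))
    (fun a b a' b' hab hab' => by
      obtain ⟨h, hh, h1, h2⟩ := h2 (e.symm a) (e.symm b) (e.symm a') (e.symm b')
        (fun h => hab (e.symm.injective h)) (fun h => hab' (e.symm.injective h))
      refine ⟨e.permCongrHom h, ⟨h, hh, rfl⟩, ?_, ?_⟩
      · change e (h (e.symm a)) = a'
        rw [h1, Equiv.apply_symm_apply]
      · change e (h (e.symm b)) = b'
        rw [h2, Equiv.apply_symm_apply])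
    ⟨x, hx, he⟩
  have hv7 : orderOf v = 7 := by rw [← hu7]; exact (MulEquiv.orderOf_eq e.permCongrHom v).symm
  obtain ⟨hvc, hvs, -⟩ := cycleType_of_orderOf (n := 13) (by norm_num : Nat.Prime 7) (by norm_num) hα hv7
  exact Generic.alternating_le (by norm_num : Nat.Prime 7) H hvc hvs (by omega) hv

end Cfsg.Agent.Lib.AltPair.Small
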